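import Mathlib
import Cfsg.Agent.Lib.Helper71.SUG2.Defs

/-!
# Project SUG (S2412), block [II]: package [II-COMBSTEP]

From the pairs and the vectors of weight 4 to all vectors of even weight.
-/

set_option autoImplicit false
open scoped Matrix

namespace Cfsg.Agent.Lib.Helper34.SUG2

open Cfsg.Agent.Lib.Helper71.SUG2

universe u

/-- The weight is the cardinality of any finset describing the support. -/
theorem weight_eq_card {n : ℕ} {F : Type u} [Field F] (v : Fin n → F) (S : Finset (Fin n))
    (hS : ∀ k, k ∈ S ↔ v k ≠ 0) : weight v = S.card := by
  classical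
  unfold weight
  congr 1
  ext k
  simp [hS]

/-- The support as a finset. -/
theorem exists_supp {n : ℕ} {F : Type u} [Field F] (v : Fin n → F) :
    ∃ S : Finset (Fin n), ∀ k, k ∈ S ↔ v k ≠ 0 := by
  classical
  exact ⟨Finset.univ.filter (fun i => v i ≠ 0), fun k => by simp⟩

/-- [II-COMBSTEP] -/
theorem pkgCombStep : Cfsg.Agent.Lib.Helper71.SUG2.PkgCombStep.{u} := by
  intro F _ _ hF n C hB hpairs h4
  classical
  obtain ⟨α, hα⟩ := f4_alpha hF
  have h2 : (2 : F) = 0 := f4_two hF
  have hα0 : α ≠ 0 := by
    rintro rfl
    norm_num at hα
  have hα3 : α ^ 3 = 1 := f4_cube hF α hα0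
  have e1 : 1 + α ^ 2 = α := by linear_combination hα - α * h2
  have e2 : 1 + α = α ^ 2 := by linear_combination hα - α ^ 2 * h2
  have e3 : α ^ 4 = α := by rw [show α ^ 4 = α ^ 3 * α by ring, hα3, one_mul]
  have key : ∀ m : ℕ, ∀ (v : Fin n → F) (S : Finset (Fin n)), (∀ k, k ∈ S ↔ v k ≠ 0) →
      S.card = m → Even m → v ∈ C := by
    intro m
    induction m using Nat.strong_induction_on with
    | _ m ih =>
      intro v S hS hcard hev
      rcases Nat.eq_zero_or_pos m with h0 | hpos
      · -- weight 0
        subst h0
        have hSe : S = ∅ := Finset.card_eq_zero.mp hcard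
        have hv0 : v = 0 := by
          funext k
          by_contra hk
          have : k ∈ S := (hS k).2 hk
          rw [hSe] at this
          exact absurd this (Finset.notMem_empty k)
        rw [hv0]; exact hB.zero
      · by_cases hm2 : m = 2
        · subst hm2
          obtain ⟨i, j, hij, hSij⟩ := Finset.card_eq_two.mp hcard
          have hvi : v i ≠ 0 := (hS i).1 (by rw [hSij]; simp)
          have hvj : v j ≠ 0 := (hS j).1 (by rw [hSij]; simp)
          have hv : v = v i • (E i + (v j / v i) • E j) := by
            funext k
            by_cases hki : k = i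
            · rw [hki]
              simp [E, hij]
            · by_cases hkj : k = j
              · rw [hkj]
                simp [E, hij.symm]
                field_simp
              · have hk0 : v k = 0 := by
                  by_contra h
                  have hmem := (hS k).2 h
                  rw [hSij] at hmem
                  simp [hki, hkj] at hmem
                simp [E, hki, hkj, hk0]
          rw [hv]
          exact hB.scal _ (hpairs i j hij _ (div_ne_zero hvj hvi)) _ hvi
        · by_cases hm4 : m = 4
          · exact h4 v (by rw [weight_eq_card v S hS, hcard, hm4])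
          · -- m ≥ 6
            have hm6 : 6 ≤ m := by
              obtain ⟨t, ht⟩ := hev
              omega
            obtain ⟨T, hTS, hTc⟩ := Finset.exists_subset_card_eq (show 4 ≤ S.card by omega)
            obtain ⟨i1, T', hi1, hins, hT'c⟩ := Finset.card_eq_succ.mp hTc
            obtain ⟨i2, i3, i4, h23, h24, h34, hT'⟩ := Finset.card_eq_three.mp hT'c
            have h12 : i1 ≠ i2 := by
              intro h; exact hi1 (by rw [hT', h]; simp)
            have h13 : i1 ≠ i3 := by
              intro h; exact hi1 (by rw [hT', h]; simp)
            have h14 : i1 ≠ i4 := by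
              intro h; exact hi1 (by rw [hT', h]; simp)
            have hT : ∀ k, k ∈ T ↔ (k = i1 ∨ k = i2 ∨ k = i3 ∨ k = i4) := by
              intro k; rw [← hins, hT']; simp
            have hi1S : i1 ∈ S := hTS ((hT i1).2 (Or.inl rfl))
            have hi2S : i2 ∈ S := hTS ((hT i2).2 (Or.inr (Or.inl rfl)))
            have hi3S : i3 ∈ S := hTS ((hT i3).2 (Or.inr (Or.inr (Or.inl rfl))))
            have hi4S : i4 ∈ S := hTS ((hT i4).2 (Or.inr (Or.inr (Or.inr rfl))))
            have hv1 : v i1 ≠ 0 := (hS i1).1 hi1S
            have hv2 : v i2 ≠ 0 := (hS i2).1 hi2S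
            have hv3 : v i3 ≠ 0 := (hS i3).1 hi3S
            have hv4 : v i4 ≠ 0 := (hS i4).1 hi4S
            have hcase : ∀ k, k = i1 ∨ k = i2 ∨ k = i3 ∨ k = i4 ∨
                (k ≠ i1 ∧ k ≠ i2 ∧ k ≠ i3 ∧ k ≠ i4) := by
              intro k
              by_cases a : k = i1
              · exact Or.inl a
              · by_cases b : k = i2
                · exact Or.inr (Or.inl b)
                · by_cases c : k = i3
                  · exact Or.inr (Or.inr (Or.inl c))
                  · by_cases d : k = i4
                    · exact Or.inr (Or.inr (Or.inr (Or.inl d)))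
                    · exact Or.inr (Or.inr (Or.inr (Or.inr ⟨a, b, c, d⟩)))
            obtain ⟨g, hg⟩ : ∃ g : Fin n → F, g = fun k => if k = i1 then 1 else if k = i2 then 1
                else if k = i3 then α ^ 2 else if k = i4 then α else 0 := ⟨_, rfl⟩
            have g1 : g i1 = 1 := by rw [hg]; simp
            have g2 : g i2 = 1 := by rw [hg]; simp [h12.symm]
            have g3 : g i3 = α ^ 2 := by rw [hg]; simp [h13.symm, h23.symm]
            have g4 : g i4 = α := by rw [hg]; simp [h14.symm, h24.symm, h34.symm]
            have g0 : ∀ k, k ≠ i1 → k ≠ i2 → k ≠ i3 → k ≠ i4 → g k = 0 := by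
              intro k a b c d; rw [hg]; simp [a, b, c, d]
            obtain ⟨f, hf⟩ : ∃ f : Fin n → F, f = fun k => g k * v k := ⟨_, rfl⟩
            obtain ⟨e, he⟩ : ∃ e : Fin n → F, e = fun k => (1 + g k) * v k := ⟨_, rfl⟩
            have hfk : ∀ k, f k = g k * v k := fun k => by rw [hf]
            have hek : ∀ k, e k = (1 + g k) * v k := fun k => by rw [he]
            -- the support of f
            have hfi1 : f i1 ≠ 0 := by rw [hfk, g1, one_mul]; exact hv1
            have hfi2 : f i2 ≠ 0 := by rw [hfk, g2, one_mul]; exact hv2
            have hfi3 : f i3 ≠ 0 := by rw [hfk, g3]; exact mul_ne_zero (pow_ne_zero 2 hα0) hv3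
            have hfi4 : f i4 ≠ 0 := by rw [hfk, g4]; exact mul_ne_zero hα0 hv4
            have hf0 : ∀ k, k ≠ i1 → k ≠ i2 → k ≠ i3 → k ≠ i4 → f k = 0 := by
              intro k a b c d; rw [hfk, g0 k a b c d, zero_mul]
            have hSf : ∀ k, k ∈ T ↔ f k ≠ 0 := by
              intro k; rw [hT]
              rcases hcase k with h | h | h | h | ⟨a, b, c, d⟩
              · rw [h]; exact ⟨fun _ => hfi1, fun _ => Or.inl rfl⟩
              · rw [h]; exact ⟨fun _ => hfi2, fun _ => Or.inr (Or.inl rfl)⟩
              · rw [h]; exact ⟨fun _ => hfi3, fun _ => Or.inr (Or.inr (Or.inl rfl))⟩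
              · rw [h]; exact ⟨fun _ => hfi4, fun _ => Or.inr (Or.inr (Or.inr rfl))⟩
              · constructor
                · rintro (h | h | h | h)
                  exacts [absurd h a, absurd h b, absurd h c, absurd h d]
                · intro h; exact absurd (hf0 k a b c d) h
            have hf_mem : f ∈ C := h4 f (by rw [weight_eq_card f T hSf, hTc])
            -- the support of e
            have hei1 : e i1 = 0 := by rw [hek, g1]; linear_combination (v i1) * h2
            have hei2 : e i2 = 0 := by rw [hek, g2]; linear_combination (v i2) * h2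
            have hei3 : e i3 ≠ 0 := by rw [hek, g3, e1]; exact mul_ne_zero hα0 hv3
            have hei4 : e i4 ≠ 0 := by
              rw [hek, g4, e2]; exact mul_ne_zero (pow_ne_zero 2 hα0) hv4
            have hee : ∀ k, k ≠ i1 → k ≠ i2 → k ≠ i3 → k ≠ i4 → e k = v k := by
              intro k a b c d; rw [hek, g0 k a b c d, add_zero, one_mul]
            have hSe : ∀ k, k ∈ (S.erase i1).erase i2 ↔ e k ≠ 0 := by
              intro k
              rw [Finset.mem_erase, Finset.mem_erase]
              rcases hcase k with h | h | h | h | ⟨a, b, c, d⟩
              · rw [h]; exact ⟨fun hh => absurd rfl hh.2.1, fun hh => absurd hei1 hh⟩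
              · rw [h]; exact ⟨fun hh => absurd rfl hh.1, fun hh => absurd hei2 hh⟩
              · rw [h]; exact ⟨fun _ => hei3, fun _ => ⟨h23.symm, h13.symm, hi3S⟩⟩
              · rw [h]; exact ⟨fun _ => hei4, fun _ => ⟨h24.symm, h14.symm, hi4S⟩⟩
              · rw [hee k a b c d, ← hS k]; exact ⟨fun hh => hh.2.2, fun hh => ⟨b, a, hh⟩⟩
            have hcSe : ((S.erase i1).erase i2).card = m - 2 := by
              rw [Finset.card_erase_of_mem (Finset.mem_erase.mpr ⟨h12.symm, hi2S⟩),
                Finset.card_erase_of_mem hi1S, hcard]
              omega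
            have hev' : Even (m - 2) := by
              obtain ⟨t, ht⟩ := hev
              exact ⟨t - 1, by omega⟩
            have he_mem : e ∈ C := ih (m - 2) (by omega) e _ hSe hcSe hev'
            -- the form
            have hterm : ∀ k, e k * f k ^ 2 =
                (if k = i3 then α ^ 2 else 0) + (if k = i4 then α else 0) := by
              intro k
              rcases hcase k with h | h | h | h | ⟨a, b, c, d⟩
              · rw [h, hei1, if_neg h13, if_neg h14]; ring
              · rw [h, hei2, if_neg h23, if_neg h24]; ring
              · rw [h, if_pos rfl, if_neg h34, hek, hfk, g3, add_zero]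
                have hc := f4_cube hF (v i3) hv3
                calc (1 + α ^ 2) * v i3 * (α ^ 2 * v i3) ^ 2
                    = (1 + α ^ 2) * α ^ 4 * v i3 ^ 3 := by ring
                  _ = α ^ 2 := by rw [e1, e3, hc]; ring
              · rw [h, if_neg h34.symm, if_pos rfl, hek, hfk, g4, zero_add]
                have hc := f4_cube hF (v i4) hv4
                calc (1 + α) * v i4 * (α * v i4) ^ 2
                    = (1 + α) * α ^ 2 * v i4 ^ 3 := by ring
                  _ = α := by rw [e2, hc, mul_one, ← pow_add, e3]
              · rw [hf0 k a b c d, if_neg c, if_neg d]; ring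
            have hH : H n F e f = 1 := by
              rw [H_apply]
              simp only [hterm]
              rw [Finset.sum_add_distrib, Finset.sum_ite_eq', Finset.sum_ite_eq']
              simp only [Finset.mem_univ, if_true]
              linear_combination hα - h2
            have hef : e + (1 : F) • f = v := by
              funext k
              rw [Pi.add_apply, Pi.smul_apply, smul_eq_mul, one_mul, hek, hfk]
              linear_combination (g k * v k) * h2
            have := hB.third e he_mem f hf_mem
            rw [hH, hef] at this
            exact this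
  intro v hv
  obtain ⟨S, hS⟩ := exists_supp v
  exact key _ v S hS rfl (by rw [← weight_eq_card v S hS]; exact hv)

end Cfsg.Agent.Lib.Helper34.SUG2
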