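import Mathlib
import Cfsg.Agent.Lib.Helper71.SUG2.Defs
import Cfsg.Agent.Lib.Helper34.SUG2.CombStep

/-!
# Project SUG (S2412), block [II]: package [II-COMB4]

From the pairs and `w` to all vectors of weight 4 (monomial moves).
-/

set_option autoImplicit false
open scoped Matrix

namespace Cfsg.Agent.Lib.Helper34.SUG2

open Cfsg.Agent.Lib.Helper71.SUG2

universe u

section moves

variable {F : Type u} [Field F] [Fintype F] {n : ℕ} {C : Set (Fin n → F)}

/-- The monomial move `(x_i, x_j) ↦ (a² x_j, a x_i)` given by the third point with `e_i + a e_j`. -/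
theorem mono_mem (hF : Fintype.card F = 2 ^ 2) (hB : VBase n F C)
    (hpairs : ∀ i j : Fin n, i ≠ j → ∀ a : F, a ≠ 0 → (E i + a • E j : Fin n → F) ∈ C)
    (x : Fin n → F) (hx : x ∈ C) (i j : Fin n) (hij : i ≠ j) (a : F) (ha : a ≠ 0) :
    (fun k => if k = i then a ^ 2 * x j else if k = j then a * x i else x k) ∈ C := by
  have h2 := f4_two hF
  have ha3 := f4_cube hF a ha
  have hf := hpairs i j hij a ha
  have h3 := hB.third x hx _ hf
  have fE : ∀ k, (E i + a • E j : Fin n → F) k =
      (if k = i then 1 else 0) + a * (if k = j then 1 else 0) := by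
    intro k
    simp [E, Pi.single_apply]
  have hH : H n F x (E i + a • E j) = x i + a ^ 2 * x j := by
    rw [H_apply]
    have hterm : ∀ k, x k * (E i + a • E j : Fin n → F) k ^ 2 =
        (if k = i then x i else 0) + (if k = j then a ^ 2 * x j else 0) := by
      intro k
      rw [fE]
      by_cases hki : k = i
      · rw [hki, if_pos rfl, if_neg hij, if_pos rfl, if_neg hij]; ring
      · by_cases hkj : k = j
        · rw [hkj, if_neg hij.symm, if_pos rfl, if_neg hij.symm, if_pos rfl]; ring
        · rw [if_neg hki, if_neg hkj, if_neg hki, if_neg hkj]; ring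
    simp only [hterm]
    rw [Finset.sum_add_distrib, Finset.sum_ite_eq', Finset.sum_ite_eq']
    simp
  rw [hH] at h3
  convert h3 using 1
  funext k
  rw [Pi.add_apply, Pi.smul_apply, smul_eq_mul, fE]
  by_cases hki : k = i
  · rw [hki, if_pos rfl, if_pos rfl, if_neg hij]
    linear_combination (-(x i)) * h2
  · by_cases hkj : k = j
    · rw [hkj, if_neg hij.symm, if_pos rfl, if_neg hij.symm, if_pos rfl]
      linear_combination (-(x j)) * h2 - (x j) * ha3
    · rw [if_neg hki, if_neg hkj, if_neg hki, if_neg hkj]; ring

/-- Swapping two coordinates. -/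
theorem swap_mem (hF : Fintype.card F = 2 ^ 2) (hB : VBase n F C)
    (hpairs : ∀ i j : Fin n, i ≠ j → ∀ a : F, a ≠ 0 → (E i + a • E j : Fin n → F) ∈ C)
    (x : Fin n → F) (hx : x ∈ C) (i j : Fin n) (hij : i ≠ j) :
    (fun k => if k = i then x j else if k = j then x i else x k) ∈ C := by
  have := mono_mem hF hB hpairs x hx i j hij 1 one_ne_zero
  convert this using 1
  funext k
  rw [one_pow, one_mul, one_mul]

/-- Rescaling one coordinate, given a spare zero coordinate. -/
theorem scale_mem (hF : Fintype.card F = 2 ^ 2) (hB : VBase n F C)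
    (hpairs : ∀ i j : Fin n, i ≠ j → ∀ a : F, a ≠ 0 → (E i + a • E j : Fin n → F) ∈ C)
    (x : Fin n → F) (hx : x ∈ C) (i j : Fin n) (hij : i ≠ j) (hxj : x j = 0) (c : F)
    (hc : c ≠ 0) : (fun k => if k = i then c * x k else x k) ∈ C := by
  have h1 := mono_mem hF hB hpairs x hx i j hij c hc
  have h2 := swap_mem hF hB hpairs _ h1 i j hij
  convert h2 using 1
  funext k
  by_cases hki : k = i
  · rw [hki]
    simp [hij.symm]
  · by_cases hkj : k = j
    · rw [hkj]
      simp [hij.symm, hxj]
    · simp [hki, hkj]

end moves

/-- [II-COMB4] -/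
theorem pkgComb4 : Cfsg.Agent.Lib.Helper71.SUG2.PkgComb4.{u} := by
  intro F _ _ hF n hn C hB hpairs hw y hy
  classical
  obtain ⟨Sy, hSy⟩ := exists_supp y
  have hSyc : Sy.card = 4 := by rw [← weight_eq_card y Sy hSy]; exact hy
  -- same support
  have same : ∀ (x : Fin n → F) (Sx : Finset (Fin n)), (∀ k, k ∈ Sx ↔ x k ≠ 0) →
      Sx.card = 4 → x ∈ C → Sx = Sy → y ∈ C := by
    intro x Sx hSx hSxc hx hSS
    have hspare : ∃ j, j ∉ Sx := by
      by_contra hcon
      push Not at hcon
      have hu : Sx = Finset.univ := Finset.eq_univ_iff_forall.mpr hcon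
      rw [hu, Finset.card_univ, Fintype.card_fin] at hSxc
      omega
    obtain ⟨j, hj⟩ := hspare
    have hxj : x j = 0 := by
      by_contra h; exact hj ((hSx j).2 h)
    have step : ∀ I : Finset (Fin n), I ⊆ Sx → (fun k => if k ∈ I then y k else x k) ∈ C := by
      intro I
      induction I using Finset.induction_on with
      | empty =>
        intro _
        have : (fun k => if k ∈ (∅ : Finset (Fin n)) then y k else x k) = x := by
          funext k; simp
        rw [this]; exact hx
      | insert i I' hi ih =>
        intro hsub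
        have hI' : I' ⊆ Sx := fun k hk => hsub (Finset.mem_insert_of_mem hk)
        have hiS : i ∈ Sx := hsub (Finset.mem_insert_self i I')
        have hxi : x i ≠ 0 := (hSx i).1 hiS
        have hyi : y i ≠ 0 := (hSy i).1 (hSS ▸ hiS)
        have hij : i ≠ j := fun h => hj (h ▸ hiS)
        have hz := ih hI'
        have hzj : (fun k => if k ∈ I' then y k else x k) j = 0 := by
          show (if j ∈ I' then y j else x j) = 0
          rw [if_neg (fun h => hj (hI' h))]; exact hxj
        have hsc := scale_mem hF hB hpairs _ hz i j hij hzj (y i / x i) (div_ne_zero hyi hxi)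
        convert hsc using 1
        funext k
        by_cases hki : k = i
        · rw [hki]
          simp only [Finset.mem_insert_self, if_true, if_neg hi]
          field_simp
        · have hmem : k ∈ insert i I' ↔ k ∈ I' := by
            rw [Finset.mem_insert]
            exact ⟨fun h => h.resolve_left hki, fun h => Or.inr h⟩
          simp only [if_neg hki, hmem]
    have hfin := step Sx (Finset.Subset.refl _)
    convert hfin using 1
    funext k
    by_cases hk : k ∈ Sx
    · rw [if_pos hk]
    · rw [if_neg hk]
      have h1 : x k = 0 := by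
        by_contra h; exact hk ((hSx k).2 h)
      have h2 : y k = 0 := by
        by_contra h; exact hk (hSS ▸ (hSy k).2 h)
      rw [h1, h2]
  -- induction on the number of support elements of `y` outside the support of `x`
  have key : ∀ d : ℕ, ∀ (x : Fin n → F) (Sx : Finset (Fin n)), (∀ k, k ∈ Sx ↔ x k ≠ 0) →
      Sx.card = 4 → x ∈ C → (Sy \ Sx).card = d → y ∈ C := by
    intro d
    induction d with
    | zero =>
      intro x Sx hSx hSxc hx hd
      have hsub : Sy ⊆ Sx := Finset.sdiff_eq_empty_iff_subset.mp (Finset.card_eq_zero.mp hd)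
      have heq : Sy = Sx := Finset.eq_of_subset_of_card_le hsub (by rw [hSxc, hSyc])
      exact same x Sx hSx hSxc hx heq.symm
    | succ d ih =>
      intro x Sx hSx hSxc hx hd
      have hne : (Sy \ Sx).Nonempty := Finset.card_pos.mp (by omega)
      obtain ⟨k1, hk1⟩ := hne
      rw [Finset.mem_sdiff] at hk1
      have hne' : (Sx \ Sy).Nonempty := by
        rw [Finset.nonempty_iff_ne_empty]
        intro h
        have hsub : Sx ⊆ Sy := Finset.sdiff_eq_empty_iff_subset.mp h
        have heq : Sx = Sy := Finset.eq_of_subset_of_card_le hsub (by rw [hSxc, hSyc])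
        exact hk1.2 (heq ▸ hk1.1)
      obtain ⟨k0, hk0⟩ := hne'
      rw [Finset.mem_sdiff] at hk0
      have h01 : k0 ≠ k1 := fun h => hk1.2 (h ▸ hk0.1)
      have hx' := swap_mem hF hB hpairs x hx k0 k1 h01
      have hxk1 : x k1 = 0 := by
        by_contra h; exact hk1.2 ((hSx k1).2 h)
      have hxk0 : x k0 ≠ 0 := (hSx k0).1 hk0.1
      have hS' : ∀ k, k ∈ insert k1 (Sx.erase k0) ↔
          (fun k => if k = k0 then x k1 else if k = k1 then x k0 else x k) k ≠ 0 := by
        intro k
        rw [Finset.mem_insert, Finset.mem_erase]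
        show _ ↔ (if k = k0 then x k1 else if k = k1 then x k0 else x k) ≠ 0
        by_cases a : k = k0
        · rw [if_pos a, hxk1, a]
          constructor
          · rintro (h | ⟨h, -⟩)
            · exact absurd h h01
            · exact absurd rfl h
          · intro h; exact absurd rfl h
        · by_cases b : k = k1
          · rw [if_neg a, if_pos b]
            exact ⟨fun _ => hxk0, fun _ => Or.inl b⟩
          · rw [if_neg a, if_neg b, ← hSx k]
            constructor
            · rintro (h | ⟨-, h⟩)
              · exact absurd h b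
              · exact h
            · intro h; exact Or.inr ⟨a, h⟩
      have hc' : (insert k1 (Sx.erase k0)).card = 4 := by
        rw [Finset.card_insert_of_notMem (fun h => hk1.2 (Finset.mem_of_mem_erase h)),
          Finset.card_erase_of_mem hk0.1, hSxc]
      have hd' : (Sy \ insert k1 (Sx.erase k0)).card = d := by
        have hset : Sy \ insert k1 (Sx.erase k0) = (Sy \ Sx).erase k1 := by
          ext k
          simp only [Finset.mem_sdiff, Finset.mem_insert, Finset.mem_erase]
          constructor
          · rintro ⟨h1, h2⟩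
            refine ⟨fun h => h2 (Or.inl h), h1, fun h => ?_⟩
            exact h2 (Or.inr ⟨fun hk => hk0.2 (hk ▸ h1), h⟩)
          · rintro ⟨h1, h2, h3⟩
            refine ⟨h2, ?_⟩
            rintro (h | ⟨-, h⟩)
            · exact h1 h
            · exact h3 h
        rw [hset, Finset.card_erase_of_mem (Finset.mem_sdiff.mpr hk1), hd]
        rfl
      exact ih _ _ hS' hc' hx' hd'
  -- the support of `w`
  have hSw : ∀ k, k ∈ Finset.univ.filter (fun i : Fin n => (i : ℕ) < 4) ↔ wvec n F k ≠ 0 := by
    intro k
    rw [Finset.mem_filter]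
    unfold wvec
    by_cases hk : (k : ℕ) < 4
    · simp [hk]
    · simp [hk]
  have hcw : (Finset.univ.filter (fun i : Fin n => (i : ℕ) < 4)).card = 4 := by
    rw [Fin.card_filter_val_lt]
    omega
  exact key _ (wvec n F) _ hSw hcw hw rfl

end Cfsg.Agent.Lib.Helper34.SUG2
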